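/-
`PSL_2(q)` with abelian Sylow 2-subgroups: the four-group, its normalizer, and its 2-automorphisms.
-/
import Cfsg.Agent.Lib.Classical.SL2Klein
import Cfsg.Agent.Lib.KnownSimple.PSLAut.Classification
import Cfsg.Agent.Lib.KnownSimple.PSLAut.Descent

set_option autoImplicit false

namespace CfsgLib.TwoSylow.JankoRee

open Matrix CfsgLib.Classical.SL2Q CfsgLib.Fusion.PSL2 CfsgLib.PSLAut
open scoped MatrixGroups

variable {F : Type*} [Field F] [Fintype F]

local notation "SL2" => Matrix.SpecialLinearGroup (Fin 2) F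
local notation "K2" => Matrix.ProjectiveSpecialLinearGroup (Fin 2) F

theorem two_ne_zero' (hFo : Odd (Fintype.card F)) : (2 : F) ≠ 0 := by
  refine Ring.two_ne_zero ?_
  intro h
  have := FiniteField.even_card_iff_char_two.1 h
  obtain ⟨c, hc⟩ := hFo
  omega

theorem card_mod_eight (hFo : Odd (Fintype.card F))
    (hab : ∀ P : Subgroup K2, IsPGroup 2 P → ∀ x ∈ P, ∀ y ∈ P, x * y = y * x) :
    Fintype.card F % 8 = 3 ∨ Fintype.card F % 8 = 5 := by
  have h2 := two_ne_zero' hFo
  obtain ⟨c, hc⟩ := hFo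
  by_contra hq
  obtain ⟨V, hV, hN⟩ := exists_klein_large (F := F) h2 (by omega)
  obtain ⟨φ, hker, hcard, -⟩ := card_normalizer_klein hV (klein_self_centralizing h2 hV)
  have : Fact (Nat.Prime 2) := ⟨Nat.prime_two⟩
  obtain ⟨⟨_, n, rfl⟩, hn⟩ := exists_prime_orderOf_dvd_card' (G := φ.range) 2 ⟨3, by omega⟩
  rw [← Subgroup.orderOf_coe] at hn
  change orderOf (φ n) = 2 at hn
  obtain ⟨a, b, hb, hab'⟩ := Nat.exists_eq_two_pow_mul_odd (orderOf_pos n).ne'
  set m : Subgroup.normalizer (V : Set K2) := n ^ b with hm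
  have hmp : m ^ (2 ^ a) = 1 := by rw [hm, ← pow_mul, mul_comm, ← hab', pow_orderOf_eq_one]
  have hφm : φ m = φ n := by
    obtain ⟨d, rfl⟩ := hb
    rw [hm, map_pow, pow_succ, pow_mul, show (φ n) ^ 2 = 1 from orderOf_dvd_iff_pow_eq_one.1 (dvd_of_eq hn),
      one_pow, one_mul]
  have hp : IsPGroup 2 (Subgroup.zpowers (m : K2)) := by
    obtain ⟨i, -, hi⟩ := (Nat.dvd_prime_pow Nat.prime_two).1
      (orderOf_dvd_of_pow_eq_one (x := (m : K2)) (n := 2 ^ a) (by rw [← SubmonoidClass.coe_pow, hmp]; rfl))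
    exact IsPGroup.of_card (n := i) (by rw [Nat.card_zpowers, hi])
  have hVp : IsPGroup 2 V := IsPGroup.of_card (n := 2) (hV.card_four.trans (by norm_num))
  have hH := hp.to_sup_of_normal_right' hVp (Subgroup.zpowers_le.2 m.2)
  have hmV : (m : K2) ∈ V := klein_self_centralizing h2 hV _ fun v hv =>
    hab _ hH _ (Subgroup.mem_sup_right hv) _ (Subgroup.mem_sup_left (Subgroup.mem_zpowers _))
  rw [← hker, hφm] at hmV
  rw [hmV, orderOf_one] at hn
  omega

theorem card_normalizer_twelve (hFo : Odd (Fintype.card F))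
    (hq : Fintype.card F % 8 = 3 ∨ Fintype.card F % 8 = 5) {V : Subgroup K2} (hV : IsKleinFour V) :
    Nat.card (Subgroup.normalizer (V : Set K2)) = 12 := by
  have h2 := two_ne_zero' hFo
  have h := card_conjugates_mul V
  rw [← twelve_mul_card_klein h2 (F := F),
    show Nat.card {W : Subgroup K2 // ∃ g : K2, W = V.map (MulAut.conj g).toMonoidHom} =
      Nat.card {W : Subgroup K2 // IsKleinFour W} from Nat.card_congr (Equiv.subtypeEquivRight fun W =>
        ⟨fun ⟨g, hg⟩ => hg ▸ isKleinFour_map hV g, fun hW => klein_classes_one h2 hq hV hW⟩),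
    mul_comm 12] at h
  exact Nat.eq_of_mul_eq_mul_left (Nat.pos_of_ne_zero (Nat.card_ne_zero.2
    ⟨⟨⟨V, hV⟩⟩, inferInstance⟩)) h

/-- An element of the normalizer acting without fixed points on the involutions of a four-group. -/
theorem exists_cycle (hFo : Odd (Fintype.card F))
    (hq : Fintype.card F % 8 = 3 ∨ Fintype.card F % 8 = 5) {V : Subgroup K2} (hV : IsKleinFour V) :
    ∃ a ∈ Subgroup.normalizer (V : Set K2), ∀ v ∈ V, a * v * a⁻¹ = v → v = 1 := by
  have h2 := two_ne_zero' hFo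
  obtain ⟨φ, hker, hcard, -⟩ := card_normalizer_klein hV (klein_self_centralizing h2 hV)
  rw [card_normalizer_twelve hFo hq hV] at hcard
  have : Fact (Nat.Prime 3) := ⟨Nat.prime_three⟩
  obtain ⟨⟨_, a, rfl⟩, ha⟩ := exists_prime_orderOf_dvd_card' (G := φ.range) 3 ⟨1, by omega⟩
  rw [← Subgroup.orderOf_coe] at ha
  change orderOf (φ a) = 3 at ha
  refine ⟨a, a.2, fun v hv hfix => ?_⟩
  by_contra hv1
  have hane : (a : K2) ∉ V := fun h => by
    rw [(hker a).2 h, orderOf_one] at ha
    omega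
  have ha3 : (a : K2) * a * a ∈ V := by
    have : φ (a * a * a) = 1 := by
      rw [map_mul, map_mul, ← pow_two, ← pow_succ]
      simpa [ha] using pow_orderOf_eq_one (φ a)
    simpa using (hker _).1 this
  obtain ⟨w, hwV, hw1, hwv⟩ := exists_pair_in_klein hV hv
  obtain ⟨U, hU, hvU, hwU, hmem⟩ := exists_klein (klein_pair hV hv hwV hv1 hw1 hwv.symm)
  obtain rfl : U = V := klein_eq hU hV (klein_pair hV hv hwV hv1 hw1 hwv.symm) hvU hwU hv hwV
  have hcomm : ∀ x ∈ U, ∀ y ∈ U, x * y = y * x := fun x hx y hy => by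
    rcases eq_or_ne x 1 with rfl | hx1
    · rw [one_mul, mul_one]
    rcases eq_or_ne y 1 with rfl | hy1
    · rw [one_mul, mul_one]
    rcases eq_or_ne x y with rfl | hxy
    · rfl
    exact (klein_pair hV hx hy hx1 hy1 hxy).2.2.1
  refine hane (klein_self_centralizing h2 hV _ fun u hu => ?_)
  have hw : (a : K2) * w * (a : K2)⁻¹ = w := by
    have hm := (Subgroup.mem_normalizer_iff.1 a.2 w).1 hwV
    rcases hmem _ hm with e | e | e | e
    · exact absurd ((conj_eq_one_iff).1 e) hw1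
    · exact absurd (mul_left_cancel (mul_right_cancel (e.trans hfix.symm))) hwv
    · exact e
    · exfalso
      have e2 : (a : K2) * a * a * w * ((a : K2) * a * a)⁻¹ = v * w := by
        have hvw : (a : K2) * (v * w) * (a : K2)⁻¹ = w := by
          rw [show (a : K2) * (v * w) * (a : K2)⁻¹ = a * v * (a : K2)⁻¹ * (a * w * (a : K2)⁻¹) by group,
            hfix, e, ← mul_assoc, klein_mul_self hV hv, one_mul]
        rw [show (a : K2) * a * a * w * ((a : K2) * a * a)⁻¹ =
          a * (a * (a * w * (a : K2)⁻¹) * (a : K2)⁻¹) * (a : K2)⁻¹ by group, e, hvw, e]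
      rw [hcomm _ ha3 _ hwV, mul_inv_cancel_right] at e2
      exact hv1 (mul_eq_right.1 e2.symm)
  rcases hmem u hu with rfl | rfl | rfl | rfl
  · rw [one_mul, mul_one]
  · exact (mul_inv_eq_iff_eq_mul.1 hfix).symm
  · exact (mul_inv_eq_iff_eq_mul.1 hw).symm
  · rw [mul_assoc, ← mul_inv_eq_iff_eq_mul.1 hw, ← mul_assoc, ← mul_inv_eq_iff_eq_mul.1 hfix, mul_assoc]

theorem orderOf_fieldAut_odd (hq : Fintype.card F % 8 = 3 ∨ Fintype.card F % 8 = 5) (σ : F ≃+* F) :
    Odd (orderOf σ) := by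
  rw [← Nat.not_even_iff_odd]
  rintro ⟨c, hc⟩
  have h := card_fixedField σ
  rw [hc, ← two_mul, pow_mul'] at h
  set r := Nat.card (fixedField σ) ^ c
  rw [h, pow_two, Nat.mul_mod] at hq
  have : r % 8 < 8 := Nat.mod_lt _ (by norm_num)
  interval_cases h8 : r % 8 <;> omega

theorem mem_range_conjAut (hq : Fintype.card F % 8 = 3 ∨ Fintype.card F % 8 = 5) {β : MulAut K2} {k : ℕ}
    (hβ : β ^ (2 ^ k) = 1) : β ∈ (conjAut : GL (Fin 2) F →* MulAut K2).range := by
  obtain ⟨g, σ, rfl | ⟨h3, -⟩⟩ := aut_classification (le_refl 2) β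
  swap; · omega
  have hpow : ∀ m : ℕ, ∃ g', (conjAut g * fieldAut σ : MulAut K2) ^ m = conjAut g' * fieldAut (σ ^ m) := by
    intro m
    induction m with
    | zero => exact ⟨1, by simp⟩
    | succ m ih =>
      obtain ⟨g', hg'⟩ := ih
      refine ⟨g * fieldGL σ g', ?_⟩
      rw [pow_succ', hg', mul_assoc, ← mul_assoc (fieldAut σ), fieldAut_mul_conjAut, mul_assoc,
        ← map_mul fieldAut, ← mul_assoc, ← map_mul conjAut, ← pow_succ']
  obtain ⟨g', hg'⟩ := hpow (orderOf σ)
  rw [pow_orderOf_eq_one, map_one, mul_one] at hg'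
  set R := (conjAut : GL (Fin 2) F →* MulAut K2).range
  have hf : (conjAut g * fieldAut σ : MulAut K2) ^ orderOf σ ∈ R := ⟨g', hg'.symm⟩
  have hco : Nat.Coprime (orderOf (conjAut g * fieldAut σ : MulAut K2)) (orderOf σ) := by
    refine Nat.Coprime.coprime_dvd_left (orderOf_dvd_of_pow_eq_one hβ) ?_
    exact Nat.Coprime.pow_left k (Nat.coprime_two_left.2 (orderOf_fieldAut_odd hq σ))
  obtain ⟨m, hm⟩ := exists_pow_eq_self_of_coprime hco.symm
  rw [← hm]
  exact pow_mem hf m

omit [Fintype F] in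
theorem scalar_of_commute (h2 : (2 : F) ≠ 0) {M : Matrix (Fin 2) (Fin 2) F} {k : SL2} (hk : IsFlip k)
    (hw : M * (wM : SL2).1 = (wM : SL2).1 * M) (hc : M * k.1 = k.1 * M) : ∃ c : F, M = c • 1 := by
  have a00 := congrFun (congrFun hw 0) 0
  have a01 := congrFun (congrFun hw 0) 1
  have b00 := congrFun (congrFun hc 0) 0
  have b01 := congrFun (congrFun hc 0) 1
  have hd := det_eq k
  obtain ⟨k1, k2⟩ := hk
  simp [Matrix.mul_apply, Fin.sum_univ_two, wM_val] at a00 a01
  simp [Matrix.mul_apply, Fin.sum_univ_two] at b00 b01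
  rw [k2, ← k1] at hd
  rw [← k1] at b00
  rw [k2] at b01
  have hb1 : M 0 1 * k.1 0 1 = 0 := by
    refine (mul_eq_zero.1 (show (2 : F) * (M 0 1 * k.1 0 1) = 0 from ?_)).resolve_left h2
    linear_combination b00 + k.1 0 1 * a00
  have hb2 : M 0 1 * k.1 0 0 = 0 := by
    refine (mul_eq_zero.1 (show (2 : F) * (M 0 1 * k.1 0 0) = 0 from ?_)).resolve_left h2
    linear_combination -b01 + k.1 0 1 * a01
  have hb : M 0 1 = 0 := by
    by_contra hb
    rw [(mul_eq_zero.1 hb1).resolve_left hb, (mul_eq_zero.1 hb2).resolve_left hb] at hd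
    simp at hd
  refine ⟨M 0 0, Matrix.ext fun i j => ?_⟩
  fin_cases i <;> fin_cases j <;> simp [hb]
  · linear_combination a00 - hb
  · linear_combination -a01

/-- A 2-automorphism centralising a four-group is conjugation by an element of the four-group. -/
theorem eq_conj_of_fix (hFo : Odd (Fintype.card F))
    (hq : Fintype.card F % 8 = 3 ∨ Fintype.card F % 8 = 5) {V : Subgroup K2} (hV : IsKleinFour V)
    {β : MulAut K2} {k : ℕ} (hβ : β ^ (2 ^ k) = 1) (hfix : ∀ v ∈ V, β v = v) :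
    ∃ v ∈ V, β = MulAut.conj v := by
  have h2 := two_ne_zero' hFo
  obtain ⟨x, hxV, hx1, -⟩ := exists_pair_in_klein hV (one_mem V)
  obtain ⟨y, hyV, hy1, hyx⟩ := exists_pair_in_klein hV hxV
  obtain ⟨u, hu⟩ := involution_conj h2 (klein_orderOf hV hxV hx1)
  obtain ⟨g, hg⟩ := mem_range_conjAut hq hβ
  obtain ⟨s, rfl⟩ := proj_surjective u
  obtain ⟨j, hj⟩ := exists_isFlip (F := F) h2
  set y' : K2 := (proj s)⁻¹ * y * proj s with hy'
  have hxy : ∀ z ∈ V, (MulAut.conj (proj s)⁻¹ * β * MulAut.conj (proj s) : MulAut K2)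
      ((proj s)⁻¹ * z * proj s) = (proj s)⁻¹ * z * proj s := by
    intro z hz
    simp only [MulAut.mul_apply, MulAut.conj_apply, inv_inv]
    rw [show proj s * ((proj s)⁻¹ * z * proj s) * (proj s)⁻¹ = z by group, hfix z hz]
  have hx' : (proj s)⁻¹ * x * proj s = proj wM := by rw [← hu]; group
  have hp : IsInvPair (proj wM, y') := by
    have := klein_pair (isKleinFour_map hV (proj s)⁻¹) (x := proj wM) (y := y')
      (mem_map_conj.2 (by rw [← hx']; simpa [mul_assoc] using hxV))
      (mem_map_conj.2 (by simpa [hy', mul_assoc] using hyV))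
      (fun h => by
        rw [← hx'] at h
        exact hx1 (by simpa [mul_assoc] using congrArg (fun w => proj s * w * (proj s)⁻¹) h))
      (fun h => hy1 (by simpa [hy', mul_assoc] using congrArg (fun w => proj s * w * (proj s)⁻¹) h))
      (fun h => hyx (by
        rw [← hx'] at h
        simpa [hy', mul_assoc] using congrArg (fun w => proj s * w * (proj s)⁻¹) h.symm))
    exact this
  obtain ⟨t, ht, het⟩ := (partner_iff h2 hj).1 hp
  rw [eq_inv_mul_iff_mul_eq, ← map_mul] at het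
  have hk := hj.mul_torus ht
  set k := j * t
  clear_value k
  set g' : GL (Fin 2) F :=
    Matrix.SpecialLinearGroup.toGL s⁻¹ * g * Matrix.SpecialLinearGroup.toGL s with hg'
  have hγ : (MulAut.conj (proj s)⁻¹ * β * MulAut.conj (proj s) : MulAut K2) = conjAut g' := by
    rw [hg', map_mul, map_mul, hg, ← conj_eq_conjAut, ← conj_eq_conjAut]
    rfl
  have key : ∀ A : SL2, conjAut g' (proj A) = proj A →
      (g' : Matrix (Fin 2) (Fin 2) F) * A.1 = A.1 * g' ∨
      (g' : Matrix (Fin 2) (Fin 2) F) * A.1 = -(A.1 * g') := by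
    intro A hA
    have hA' : proj (conjSL g' A) = proj A := by rw [← hA]; exact (conjAut_mk g' A).symm
    rcases proj_eq_iff.1 hA' with e | e
    · left
      have := congrArg (fun B : SL2 => B.1 * (g' : Matrix (Fin 2) (Fin 2) F)) e
      simpa [conjSL_coe, Matrix.mul_assoc] using this
    · right
      have := congrArg (fun B : SL2 => B.1 * (g' : Matrix (Fin 2) (Fin 2) F)) e
      simpa [conjSL_coe, Matrix.mul_assoc, Matrix.SpecialLinearGroup.coe_mul, negOne_coe] using this
  have hgw := key wM (by rw [← hγ, ← hx']; exact hxy x hxV)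
  have hgk := key k (by rw [← hγ, het]; exact hxy y hyV)
  have hWK : k.1 * (wM : SL2).1 = -((wM : SL2).1 * k.1) := by
    have := congrArg Subtype.val (isFlip_iff.1 hk)
    simpa [Matrix.SpecialLinearGroup.coe_mul, negOne_coe, Matrix.mul_assoc] using this
  obtain ⟨d, hdV, hd1, hd2⟩ : ∃ d : SL2, proj s * proj d * (proj s)⁻¹ ∈ V ∧
      (d.1 * (g' : Matrix (Fin 2) (Fin 2) F)) * (wM : SL2).1 = (wM : SL2).1 * (d.1 * g') ∧
      (d.1 * (g' : Matrix (Fin 2) (Fin 2) F)) * k.1 = k.1 * (d.1 * g') := by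
    have hxs : proj s * proj wM * (proj s)⁻¹ ∈ V := by rw [hu]; exact hxV
    have hys : proj s * proj k * (proj s)⁻¹ ∈ V := by
      rw [het, hy', show proj s * ((proj s)⁻¹ * y * proj s) * (proj s)⁻¹ = y by group]; exact hyV
    rcases hgw with ew | ew <;> rcases hgk with ek | ek
    · exact ⟨1, by rw [map_one]; simpa using one_mem V, by simp [ew], by simp [ek]⟩
    · refine ⟨wM, hxs, ?_, ?_⟩
      · rw [Matrix.mul_assoc, ew]
      · rw [Matrix.mul_assoc, ek, Matrix.mul_neg, ← Matrix.mul_assoc k.1, hWK, Matrix.neg_mul,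
          Matrix.mul_assoc]
    · refine ⟨k, hys, ?_, ?_⟩
      · rw [Matrix.mul_assoc, ew, Matrix.mul_neg, ← Matrix.mul_assoc, hWK, Matrix.neg_mul, neg_neg,
          Matrix.mul_assoc]
      · rw [Matrix.mul_assoc, ek]
    · refine ⟨wM * k, ?_, ?_, ?_⟩
      · have := mul_mem hxs hys
        rw [map_mul]
        simpa [mul_assoc] using this
      · simp only [Matrix.SpecialLinearGroup.coe_mul]
        rw [Matrix.mul_assoc, ew, Matrix.mul_neg]
        simp only [← Matrix.mul_assoc]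
        rw [Matrix.mul_assoc (wM : SL2).1 k.1, hWK]
        simp [Matrix.mul_assoc]
      · simp only [Matrix.SpecialLinearGroup.coe_mul]
        rw [Matrix.mul_assoc, ek, Matrix.mul_neg]
        simp only [← Matrix.mul_assoc]
        rw [hWK]
        simp [Matrix.mul_assoc]
  obtain ⟨c, hc⟩ := scalar_of_commute h2 hk hd1 hd2
  have hone : conjAut (Matrix.SpecialLinearGroup.toGL d * g') = (1 : MulAut K2) := by
    set M : GL (Fin 2) F := Matrix.SpecialLinearGroup.toGL d * g'
    have hM : (M : Matrix (Fin 2) (Fin 2) F) = c • 1 := hc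
    refine eq_of_mk fun A => ?_
    rw [conjAut_mk]
    refine congrArg QuotientGroup.mk (Subtype.ext ?_)
    rw [conjSL_coe, hM, Matrix.smul_mul, Matrix.one_mul, show (c • A.1) = A.1 * (c • 1) by simp,
      ← hM, Matrix.mul_assoc, Units.mul_inv, Matrix.mul_one]
  rw [map_mul, ← hγ, ← conj_eq_conjAut] at hone
  change MulAut.conj (proj d) * (MulAut.conj (proj s)⁻¹ * β * MulAut.conj (proj s)) = 1 at hone
  refine ⟨(proj s * proj d * (proj s)⁻¹)⁻¹, inv_mem hdV, ?_⟩
  rw [map_inv, eq_inv_iff_mul_eq_one, map_mul, map_mul]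
  have := congrArg (fun z => MulAut.conj (proj s) * z * MulAut.conj (proj s)⁻¹) hone
  simp only [map_inv, mul_assoc] at this ⊢
  simp at this
  rw [mul_eq_one_comm]
  simpa [mul_assoc] using this

end CfsgLib.TwoSylow.JankoRee
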