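/-
Abelian Sylow 2-subgroups with an involution centralizer `2 × E`, `E` extending `PSL_2(q)`:
the Sylow 2-subgroup is elementary of order 8 and its involutions are conjugate in its normalizer.
-/
import Cfsg.Agent.Lib.TwoSylow.JankoRee.Psl
import Cfsg.Agent.Lib.Transfer.Abelian
import Cfsg.Prelude.Def_TwoFusion

set_option autoImplicit false

namespace CfsgLib.TwoSylow.JankoRee

open Subgroup CfsgLib.Classical.SL2Q

/-- What is used about `PSL_2(q)` with abelian Sylow 2-subgroups. -/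
structure PslFacts (M : Type*) [Group M] : Prop where
  simple : IsSimpleGroup M
  sylow : ∀ P : Sylow 2 M, IsKleinFour (P : Subgroup M)
  cycle : ∀ V : Subgroup M, IsKleinFour V →
    ∃ a ∈ normalizer (V : Set M), ∀ v ∈ V, a * v * a⁻¹ = v → v = 1
  aut : ∀ V : Subgroup M, IsKleinFour V → ∀ (β : MulAut M) (k : ℕ), β ^ (2 ^ k) = 1 →
    (∀ v ∈ V, β v = v) → ∃ v ∈ V, β = MulAut.conj v

theorem isKleinFour_mapEquiv {M K : Type*} [Group M] [Group K] {V : Subgroup M} (hV : IsKleinFour V)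
    (e : M ≃* K) : IsKleinFour (V.map e.toMonoidHom) where
  card_four := by rw [Subgroup.card_map_of_injective e.injective, hV.card_four]
  exponent_two := (Monoid.exponent_eq_of_mulEquiv (e.subgroupMap V)).symm.trans hV.exponent_two

theorem pslFacts {M : Type*} [Group M] [Finite M] {F : Type*} [Field F] [Fintype F]
    (hFo : Odd (Fintype.card F)) (hF3 : 3 < Fintype.card F)
    (e : M ≃* Matrix.ProjectiveSpecialLinearGroup (Fin 2) F)
    (hab : ∀ P : Subgroup M, IsPGroup 2 P → ∀ x ∈ P, ∀ y ∈ P, x * y = y * x) : PslFacts M := by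
  have hq := card_mod_eight hFo (fun P hP x hx y hy => e.symm.injective (by
    rw [map_mul, map_mul]
    exact hab _ (hP.map e.symm.toMonoidHom) _ (mem_map_of_mem _ hx) _ (mem_map_of_mem _ hy)))
  have h2 := two_ne_zero' hFo
  have : IsSimpleGroup (Matrix.ProjectiveSpecialLinearGroup (Fin 2) F) :=
    Matrix.ProjectiveSpecialLinearGroup.rank_two_simple (by rw [Nat.card_eq_fintype_card]; omega)
  refine ⟨e.isSimpleGroup, fun P => ?_, fun V hV => ?_, fun V hV β k hβ hfix => ?_⟩
  · obtain ⟨Q, hQ⟩ := (P.2.map e.toMonoidHom).exists_le_sylow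
    have hle : Q.toSubgroup.comap e.toMonoidHom = P.toSubgroup :=
      P.is_maximal' (Q.2.comap_of_injective _ e.injective) (map_le_iff_le_comap.1 hQ)
    have := isKleinFour_mapEquiv (sylow_two_klein h2 hq Q) e.symm
    rw [← hle, show Q.toSubgroup.comap e.toMonoidHom = Q.toSubgroup.map e.symm.toMonoidHom from comap_equiv_eq_map_symm e Q.toSubgroup]
    exact this
  · obtain ⟨a, ha, hfix⟩ := exists_cycle hFo hq (isKleinFour_mapEquiv hV e)
    refine ⟨e.symm a, mem_normalizer_iff.2 fun x => ?_, fun v hv h => ?_⟩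
    · have := (mem_normalizer_iff.1 ha) (e x)
      rw [mem_map_equiv, mem_map_equiv] at this
      simpa using this
    · have := hfix (e v) (mem_map_of_mem _ hv) (by
        simpa using congrArg e h)
      exact e.injective (by rw [this, map_one])
  · obtain ⟨v, hv, hb⟩ := eq_conj_of_fix hFo hq (isKleinFour_mapEquiv hV e)
      (β := MulAut.congr e β) (k := k) (by rw [← map_pow, hβ, map_one]) (fun w hw => by
        obtain ⟨u, hu, rfl⟩ := mem_map.1 hw
        simp [hfix u hu])
    refine ⟨e.symm v, by rwa [mem_map_equiv] at hv, ?_⟩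
    ext x
    have := congrArg (fun f : MulAut _ => f (e x)) hb
    simpa using congrArg e.symm this

/-- Conjugation action of a subgroup on a subgroup it normalises. -/
def conjN {G : Type*} [Group G] (C N : Subgroup G) (h : ∀ c ∈ C, ∀ x ∈ N, c * x * c⁻¹ ∈ N) :
    C →* MulAut N where
  toFun c :=
    { toFun := fun x => ⟨c * x * (c : G)⁻¹, h c c.2 x x.2⟩
      invFun := fun x => ⟨(c : G)⁻¹ * x * c, by simpa using h _ (inv_mem c.2) x x.2⟩
      left_inv := fun x => Subtype.ext (by group)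
      right_inv := fun x => Subtype.ext (by group)
      map_mul' := fun x y => Subtype.ext (by simp [mul_assoc]) }
  map_one' := MulEquiv.ext fun x => Subtype.ext (by simp)
  map_mul' c d := MulEquiv.ext fun x => Subtype.ext (by simp [mul_assoc])

@[simp] theorem conjN_coe {G : Type*} [Group G] {C N : Subgroup G}
    (h : ∀ c ∈ C, ∀ x ∈ N, c * x * c⁻¹ ∈ N) (c : C) (x : N) :
    ((conjN C N h c x : N) : G) = c * x * (c : G)⁻¹ := rfl

variable {G : Type*} [Group G]

/-- The configuration. -/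
structure Setting (t : G) (N : Subgroup G) (S : Sylow 2 G) : Prop where
  ht : orderOf t = 2
  htS : t ∈ (S : Subgroup G)
  hSab : ∀ x ∈ (S : Subgroup G), ∀ y ∈ (S : Subgroup G), x * y = y * x
  hcoatom : IsCoatom (centralizer ({t} : Set G))
  htN : t ∉ N
  hNC : N ≤ centralizer ({t} : Set G)
  hnorm : ∀ c ∈ centralizer ({t} : Set G), ∀ x ∈ N, c * x * c⁻¹ ∈ N
  hcent : ∀ c ∈ centralizer ({t} : Set G), (∀ x ∈ N, c * x = x * c) → c = 1 ∨ c = t
  hfacts : PslFacts N

theorem setting_of [Finite G] (hab : ∀ S : Sylow 2 G, IsMulCommutative ↥(S : Subgroup G))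
    {t : G} (ht : orderOf t = 2) (hmax : IsCoatom (centralizer ({t} : Set G)))
    {E : Subgroup G} (hE : Cfsg.IsInternalDirectProduct (zpowers t) E (centralizer ({t} : Set G)))
    {F : Type*} [Field F] [Fintype F] (hFo : Odd (Fintype.card F)) (hF3 : 3 < Fintype.card F)
    (N : Subgroup ↥E) [N.Normal] (hN : Nonempty (↥N ≃* Matrix.ProjectiveSpecialLinearGroup (Fin 2) F))
    (hNc : centralizer (N : Set ↥E) = ⊥) (S : Sylow 2 G) (htS : t ∈ (S : Subgroup G)) :
    Setting t (N.map E.subtype) S := by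
  obtain ⟨hzC, hEC, hcomm, hinf, hsup⟩ := hE
  have hdec : ∀ c ∈ centralizer ({t} : Set G), ∃ u e, u ∈ zpowers t ∧ e ∈ E ∧ c = u * e := by
    intro c hc
    rw [← hsup, ← SetLike.mem_coe, coe_mul_of_left_le_normalizer_right (zpowers t) E (fun u hu =>
      mem_normalizer_iff.2 fun x => ⟨fun hx => by
        rwa [hcomm u hu x hx, mul_inv_cancel_right], fun hx => by
        have h' := hcomm u⁻¹ (inv_mem hu) _ hx
        rw [show u⁻¹ * (u * x * u⁻¹) = x * u⁻¹ by group, mul_left_inj] at h'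
        rwa [← h'] at hx⟩)] at hc
    obtain ⟨u, hu, e, he, rfl⟩ := hc
    exact ⟨u, e, hu, he, rfl⟩
  have hpow : ∀ u ∈ zpowers t, u = 1 ∨ u = t := by
    intro u hu
    obtain ⟨i, rfl⟩ := mem_zpowers_iff.1 hu
    rw [← zpow_mod_orderOf, ht]
    rcases Int.emod_two_eq_zero_or_one i with h | h <;> norm_num [h]
  have htE : t ∉ E := fun h => by
    have : t ∈ zpowers t ⊓ E := ⟨mem_zpowers t, h⟩
    rw [hinf, mem_bot] at this
    rw [this, orderOf_one] at ht
    omega
  have hNE : N.map E.subtype ≤ E := map_subtype_le N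
  have hnorm : ∀ c ∈ centralizer ({t} : Set G), ∀ x ∈ N.map E.subtype, c * x * c⁻¹ ∈ N.map E.subtype := by
    intro c hc x hx
    obtain ⟨u, e, hu, he, rfl⟩ := hdec c hc
    obtain ⟨y, hy, rfl⟩ := mem_map.1 hx
    have hz : (⟨e, he⟩ : E) * y * (⟨e, he⟩ : E)⁻¹ ∈ N := Normal.conj_mem inferInstance y hy _
    refine mem_map.2 ⟨_, hz, ?_⟩
    have : u * (e * y * e⁻¹) = e * y * e⁻¹ * u := hcomm u hu _ (mul_mem (mul_mem he y.2) (inv_mem he))
    simp only [Subgroup.coe_subtype, Subgroup.coe_mul, Subgroup.coe_inv]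
    rw [show u * e * (y : G) * (u * e)⁻¹ = u * (e * y * e⁻¹) * u⁻¹ by group, this, mul_inv_cancel_right]
  have hcent : ∀ c ∈ centralizer ({t} : Set G), (∀ x ∈ N.map E.subtype, c * x = x * c) → c = 1 ∨ c = t := by
    intro c hc hcx
    obtain ⟨u, e, hu, he, rfl⟩ := hdec c hc
    have : (⟨e, he⟩ : E) ∈ centralizer (N : Set E) := mem_centralizer_iff.2 fun y hy => Subtype.ext (by
      have h1 := hcx _ (mem_map_of_mem _ hy)
      have h2 := hcomm u hu (y : G) y.2
      simp only [Subgroup.coe_subtype, Subgroup.coe_mul] at h1 ⊢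
      rw [mul_assoc, ← mul_assoc (y : G) u e, ← h2, mul_assoc u] at h1
      exact (mul_left_cancel h1).symm)
    rw [hNc, mem_bot] at this
    rw [show e = 1 from congrArg Subtype.val this, mul_one]
    exact hpow u hu
  obtain ⟨e'⟩ := hN
  refine ⟨ht, htS, fun x hx y hy => ?_, hmax, fun h => htE (hNE h), hNE.trans hEC, hnorm, hcent,
    pslFacts hFo hF3 ((N.equivMapOfInjective E.subtype E.subtype_injective).symm.trans e') ?_⟩
  · exact congrArg Subtype.val ((hab S).is_comm.comm ⟨x, hx⟩ ⟨y, hy⟩)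
  · intro P hP x hx y hy
    obtain ⟨Q, hQ⟩ := (hP.map (N.map E.subtype).subtype).exists_le_sylow
    exact Subtype.ext (congrArg Subtype.val ((hab Q).is_comm.comm ⟨_, hQ (mem_map_of_mem _ hx)⟩
      ⟨_, hQ (mem_map_of_mem _ hy)⟩) : (x : G) * y = y * x)

namespace Setting

variable {t : G} {N : Subgroup G} {S : Sylow 2 G} (D : Setting t N S)

include D

theorem t_sq : t * t = 1 := mul_self_of_order_two D.ht

theorem t_ne : t ≠ 1 := fun h => by
  have := D.ht
  rw [h, orderOf_one] at this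
  omega

theorem sylow_le : (S : Subgroup G) ≤ centralizer ({t} : Set G) := fun s hs =>
  mem_centralizer_singleton_iff.2 (D.hSab s hs t D.htS)

theorem comm_t {x : G} (hx : x ∈ centralizer ({t} : Set G)) : x * t = t * x :=
  mem_centralizer_singleton_iff.1 hx

theorem klein [Finite G] : IsKleinFour ((S : Subgroup G).subgroupOf N) := by
  have : Fact (Nat.Prime 2) := ⟨Nat.prime_two⟩
  obtain ⟨P⟩ : Nonempty (Sylow 2 N) := inferInstance
  set C := centralizer ({t} : Set G)
  obtain ⟨Q, hQ⟩ := (P.2.map (inclusion D.hNC)).exists_le_sylow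
  obtain ⟨g, hg⟩ := MulAction.exists_smul_eq C Q (S.subtype D.sylow_le)
  have hle : (P : Subgroup N).map (conjN C N D.hnorm g).toMonoidHom ≤ (S : Subgroup G).subgroupOf N := by
    rintro _ ⟨x, hx, rfl⟩
    rw [mem_subgroupOf]
    have h1 : g * inclusion D.hNC x * g⁻¹ ∈ (g • Q : Sylow 2 C).toSubgroup := by
      rw [Sylow.coe_subgroup_smul]
      exact ⟨_, hQ (mem_map_of_mem _ hx), rfl⟩
    rw [hg] at h1
    exact h1
  have hp : IsPGroup 2 ((S : Subgroup G).subgroupOf N) := S.2.comap_subtype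
  obtain ⟨R, hR⟩ := hp.exists_le_sylow
  have hR4 := (D.hfacts.sylow R).card_four
  have h1 := card_le_of_le hle
  rw [card_map_of_injective (conjN C N D.hnorm g).injective, (D.hfacts.sylow P).card_four] at h1
  rw [eq_of_le_of_card_ge hR (by rw [hR4]; exact h1)]
  exact D.hfacts.sylow R

/-- Every element of `S` lies in `V ∪ tV`. -/
theorem decomp [Finite G] {s : G} (hs : s ∈ (S : Subgroup G)) :
    ∃ v : N, (v : G) ∈ (S : Subgroup G) ∧ (s = v ∨ s = t * v) := by
  obtain ⟨i, hi⟩ := S.2 ⟨s, hs⟩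
  have hi' : (⟨s, D.sylow_le hs⟩ : centralizer ({t} : Set G)) ^ 2 ^ i = 1 := by
    apply Subtype.ext
    simpa using congrArg Subtype.val hi
  obtain ⟨v, hv, hb⟩ := D.hfacts.aut _ D.klein (conjN _ N D.hnorm ⟨s, D.sylow_le hs⟩) i
    (by rw [← map_pow, hi', map_one]) (fun v hv => Subtype.ext (by
      rw [mem_subgroupOf] at hv
      rw [conjN_coe, D.hSab s hs _ hv, mul_inv_cancel_right]))
  have hv' : (v : G) ∈ (S : Subgroup G) := mem_subgroupOf.1 hv
  refine ⟨v, hv', ?_⟩
  rcases D.hcent ((v : G)⁻¹ * s) (mul_mem (inv_mem (D.hNC v.2)) (D.sylow_le hs)) (fun x hx => by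
      have := congrArg (fun f : MulAut N => ((f ⟨x, hx⟩ : N) : G)) hb
      simp only [conjN_coe, MulAut.conj_apply, Subgroup.coe_mul, Subgroup.coe_inv] at this
      calc (v : G)⁻¹ * s * x = (v : G)⁻¹ * (s * x * s⁻¹) * s := by group
        _ = (v : G)⁻¹ * (v * x * (v : G)⁻¹) * s := by rw [this]
        _ = x * ((v : G)⁻¹ * s) := by group) with h | h
  · exact Or.inl (eq_of_inv_mul_eq_one h).symm
  · exact Or.inr (by rw [← D.hSab _ hv' _ D.htS, ← h, mul_inv_cancel_left])

theorem elementary [Finite G] {s : G} (hs : s ∈ (S : Subgroup G)) : s * s = 1 := by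
  obtain ⟨v, hv, hor⟩ := D.decomp hs
  have hvv : (v : G) * v = 1 := congrArg Subtype.val (klein_mul_self D.klein (x := v) (mem_subgroupOf.2 hv))
  rcases hor with rfl | rfl
  · exact hvv
  · rw [show t * (v : G) * (t * v) = t * (v * t) * v by group, ← D.hSab t D.htS _ hv,
      show t * (t * (v : G)) * v = t * t * (v * v) by group, hvv, D.t_sq, one_mul]

/-- An element of `N` permuting the involutions of `V` cyclically. -/
theorem exists_cycle' [Finite G] : ∃ a : N, (a : G) ∈ normalizer (S : Set G) ∧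
    (a : G) * t = t * a ∧
    ∀ v : N, (v : G) ∈ (S : Subgroup G) → (a : G) * v * (a : G)⁻¹ = v → v = 1 := by
  obtain ⟨a, ha, hfix⟩ := D.hfacts.cycle _ D.klein
  have hat := D.comm_t (D.hNC a.2)
  refine ⟨a, ?_, hat, fun v hv h => hfix v (mem_subgroupOf.2 hv) (Subtype.ext (by simpa using h))⟩
  have key : ∀ b : N, b ∈ normalizer ((S : Subgroup G).subgroupOf N : Set N) →
      ∀ s ∈ (S : Subgroup G), (b : G) * s * (b : G)⁻¹ ∈ (S : Subgroup G) := by
    intro b hb s hs
    obtain ⟨v, hv, hor⟩ := D.decomp hs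
    have hbv : (b : G) * v * (b : G)⁻¹ ∈ (S : Subgroup G) := by
      simpa [mem_subgroupOf] using (mem_normalizer_iff.1 hb v).1 (mem_subgroupOf.2 hv)
    rcases hor with rfl | rfl
    · exact hbv
    · rw [show (b : G) * (t * v) * (b : G)⁻¹ = b * t * (v * (b : G)⁻¹) by group, D.comm_t (D.hNC b.2),
        show t * (b : G) * (v * (b : G)⁻¹) = t * (b * v * (b : G)⁻¹) by group]
      exact mul_mem D.htS hbv
  refine mem_normalizer_iff.2 fun s => ⟨fun hs => key a ha s hs, fun hs => ?_⟩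
  have := key a⁻¹ (inv_mem ha) _ hs
  simpa [mul_assoc] using this

theorem exists_mover [Finite G] (hperf : commutator G = ⊤) :
    ∃ n ∈ normalizer (S : Set G), n * t * n⁻¹ ≠ t := by
  by_contra! h
  have : Fact (Nat.Prime 2) := ⟨Nat.prime_two⟩
  have hcS : IsMulCommutative (S : Subgroup G) := ⟨⟨fun a b => Subtype.ext (D.hSab a a.2 b b.2)⟩⟩
  set Q := normalizer (S : Set G)
  have hcomm := CfsgLib.Transfer.inf_pResidual_eq_commutator S hcS
  rw [inf_eq_left.2 (le_top.trans (hperf.symm.le.trans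
    (CfsgLib.Transfer.commutator_le_pResidual_of_abelian_sylow S hcS)))] at hcomm
  set S' := (S : Subgroup G).subgroupOf Q
  have hSQ : (S : Subgroup G) ≤ Q := le_normalizer
  have h0 := CfsgLib.Transfer.inf_commutator_inf_center S'
    ⟨⟨fun a b => Subtype.ext (Subtype.ext (D.hSab _ a.2 _ b.2))⟩⟩ (by
      rw [Nat.card_congr (subgroupOfEquivOfLe hSQ).toEquiv]
      refine Nat.Coprime.coprime_dvd_right (relIndex_dvd_index_of_le hSQ) ?_
      obtain ⟨i, hi⟩ := IsPGroup.iff_card.1 S.2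
      rw [hi]
      exact ((Nat.prime_two.coprime_iff_not_dvd).2 S.not_dvd_index).pow_left i)
  have hmem : (⟨t, hSQ D.htS⟩ : Q) ∈ S' ⊓ commutator Q ⊓ center Q := by
    refine ⟨⟨mem_subgroupOf.2 D.htS, ?_⟩, mem_center_iff.2 fun n => Subtype.ext ?_⟩
    · have h1 : t ∈ (commutator Q).map Q.subtype := by
        rw [map_subtype_commutator]
        exact commutator_mono hSQ le_rfl (hcomm.le D.htS)
      obtain ⟨y, hy, he⟩ := mem_map.1 h1
      rwa [← show y = (⟨t, hSQ D.htS⟩ : Q) from Subtype.ext he]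
    · exact mul_inv_eq_iff_eq_mul.1 (h n n.2)
  rw [h0, mem_bot] at hmem
  exact D.t_ne (congrArg Subtype.val hmem)

theorem transitive [Finite G] (hperf : commutator G = ⊤) {u w : G} (hu : u ∈ (S : Subgroup G))
    (hu1 : u ≠ 1) (hw : w ∈ (S : Subgroup G)) (hw1 : w ≠ 1) :
    ∃ n ∈ normalizer (S : Set G), n * u * n⁻¹ = w := by
  classical
  have : Fact (Nat.Prime 2) := ⟨Nat.prime_two⟩
  set Q := normalizer (S : Set G) with hQ
  suffices key : ∀ s ∈ (S : Subgroup G), s ≠ 1 → ∃ n ∈ Q, n * t * n⁻¹ = s by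
    obtain ⟨m, hm, hm'⟩ := key u hu hu1
    obtain ⟨n, hn, hn'⟩ := key w hw hw1
    exact ⟨n * m⁻¹, mul_mem hn (inv_mem hm), by rw [← hm', ← hn']; group⟩
  letI : MulAction Q G := MulAction.compHom G
    ((MulAut.toPerm (G) : MulAut G →* Equiv.Perm G).comp (MulAut.conj.comp Q.subtype))
  have hsmul : ∀ (n : Q) (x : G), n • x = (n : G) * x * (n : G)⁻¹ := fun _ _ => rfl
  set O := MulAction.orbit Q t
  have hOS : ∀ x ∈ O, x ∈ (S : Subgroup G) ∧ x ≠ 1 := by
    rintro _ ⟨n, rfl⟩
    refine ⟨?_, fun h => D.t_ne (conj_eq_one_iff.1 h)⟩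
    exact (mem_normalizer_iff.1 n.2 t).1 D.htS
  have hOinv : ∀ n ∈ Q, ∀ x ∈ O, n * x * n⁻¹ ∈ O := fun n hn x hx => by
    have := MulAction.mem_orbit_of_mem_orbit (⟨n, hn⟩ : Q) hx
    rwa [hsmul] at this
  have hodd : ¬ 2 ∣ O.ncard := by
    intro hd
    refine S.not_dvd_index (hd.trans ?_)
    rw [← Nat.card_coe_set_eq, Nat.card_congr (MulAction.orbitEquivQuotientStabilizer Q t)]
    change (MulAction.stabilizer Q t).index ∣ _
    have hle : (S : Subgroup G).subgroupOf Q ≤ MulAction.stabilizer Q t := by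
      intro n hn
      rw [MulAction.mem_stabilizer_iff, hsmul]
      exact mul_inv_eq_iff_eq_mul.2 (D.hSab n hn t D.htS)
    exact (index_dvd_of_le hle).trans (relIndex_dvd_index_of_le le_normalizer)
  obtain ⟨a, haQ, hat, hafix⟩ := D.exists_cycle'
  set V := (S : Subgroup G).subgroupOf N with hVdef
  have hV := D.klein
  set T : Set G := {x | ∃ v : N, v ∈ V ∧ v ≠ 1 ∧ (v : G) = x} with hT
  set T' : Set G := (t * ·) '' T with hT'
  have hcycle : ∀ v : N, v ∈ V → v ≠ 1 → ∀ x ∈ T, x = v ∨ x = (a : G) * v * (a : G)⁻¹ ∨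
      x = (a : G) * ((a : G) * v * (a : G)⁻¹) * (a : G)⁻¹ := by
    intro v hv hv1 x hx
    obtain ⟨u, hu, hu1, rfl⟩ := hx
    set v₁ : N := a * v * a⁻¹ with hv₁
    set v₂ : N := a * v₁ * a⁻¹ with hv₂
    have hmemV : ∀ y : N, y ∈ V → a * y * a⁻¹ ∈ V := fun y hy => by
      rw [hVdef, mem_subgroupOf] at hy ⊢
      simpa using (mem_normalizer_iff.1 haQ _).1 hy
    have hne : v₁ ≠ v := fun h => hv1 (hafix v (mem_subgroupOf.1 hv) (congrArg Subtype.val h))
    have h1 : v₁ ≠ 1 := fun h => hv1 (conj_eq_one_iff.1 h)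
    have h2 : v₂ ≠ v₁ := fun h => hne (mul_left_cancel (mul_right_cancel h))
    have h21 : v₂ ≠ 1 := fun h => h1 (conj_eq_one_iff.1 h)
    have hmem1 := hmemV v hv
    obtain ⟨U, hU, hvU, hv1U, hmem⟩ := exists_klein (klein_pair hV hv hmem1 hv1 h1 hne.symm)
    obtain rfl : U = V := klein_eq hU hV (klein_pair hV hv hmem1 hv1 h1 hne.symm) hvU hv1U hv hmem1
    rcases hmem u hu with e | e | e | e
    · exact absurd e hu1
    · exact Or.inl (congrArg Subtype.val e)
    · exact Or.inr (Or.inl (congrArg Subtype.val e))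
    · refine Or.inr (Or.inr ?_)
      rcases hmem v₂ (hmemV _ hmem1) with e' | e' | e' | e'
      · exact absurd e' h21
      · exfalso
        have hvv : v * v₁ ≠ 1 := fun h => hne ((mul_left_cancel (h.trans (klein_mul_self hV hv).symm)))
        refine hvv (hafix _ (mem_subgroupOf.1 (mul_mem hv hmem1)) ?_)
        have : a * (v * v₁) * a⁻¹ = v * v₁ := by
          rw [show a * (v * v₁) * a⁻¹ = v₁ * v₂ by rw [hv₂, hv₁]; group, e']
          exact ((klein_pair hV hv hmem1 hv1 h1 hne.symm).2.2.1).symm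
        exact congrArg Subtype.val this
      · exact absurd e' h2
      · exact congrArg Subtype.val (e.trans e'.symm)
  have htriple : ∀ x ∈ O, (x ∈ T → T ⊆ O) ∧ (x ∈ T' → T' ⊆ O) := by
    intro x hx
    refine ⟨fun hxT y hy => ?_, fun hxT y hy => ?_⟩
    · obtain ⟨v, hv, hv1, rfl⟩ := hxT
      rcases hcycle v hv hv1 y hy with rfl | rfl | rfl
      · exact hx
      · exact hOinv _ haQ _ hx
      · exact hOinv _ haQ _ (hOinv _ haQ _ hx)
    · obtain ⟨_, ⟨v, hv, hv1, rfl⟩, rfl⟩ := hxT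
      obtain ⟨y, hy', rfl⟩ := hy
      have hc : ∀ z : G, (a : G) * (t * z) * (a : G)⁻¹ = t * (a * z * (a : G)⁻¹) := fun z => by
        rw [← mul_assoc (a : G) t z, hat]; group
      rcases hcycle v hv hv1 y hy' with rfl | rfl | rfl
      · exact hx
      · show t * _ ∈ O
        rw [← hc]; exact hOinv _ haQ _ hx
      · show t * _ ∈ O
        rw [← hc, ← hc]; exact hOinv _ haQ _ (hOinv _ haQ _ hx)
  have hcardT : T.ncard = 3 := by
    have hinj : Function.Injective (fun v : {v : V // v ≠ 1} => ((v.1 : N) : G)) := fun p q h =>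
      Subtype.ext (Subtype.ext (Subtype.ext h))
    have : T = Set.range (fun v : {v : V // v ≠ 1} => ((v.1 : N) : G)) := by
      ext x
      constructor
      · rintro ⟨v, hv, hv1, rfl⟩
        exact ⟨⟨⟨v, hv⟩, fun h => hv1 (congrArg Subtype.val h)⟩, rfl⟩
      · rintro ⟨⟨⟨v, hv⟩, hv1⟩, rfl⟩
        exact ⟨v, hv, fun h => hv1 (Subtype.ext h), rfl⟩
    rw [this, Set.ncard_range_of_injective hinj]
    have := Fintype.ofFinite V
    rw [Nat.card_eq_fintype_card, Fintype.card_subtype_compl, Fintype.card_subtype_eq,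
      ← Nat.card_eq_fintype_card, hV.card_four]
  have hcardT' : T'.ncard = 3 := by
    rw [hT', Set.ncard_image_of_injective _ (mul_right_injective t), hcardT]
  have hcover : ∀ x ∈ (S : Subgroup G), x ≠ 1 → x = t ∨ x ∈ T ∨ x ∈ T' := by
    intro x hx hx1
    obtain ⟨v, hv, rfl | rfl⟩ := D.decomp hx
    · exact Or.inr (Or.inl ⟨v, mem_subgroupOf.2 hv, fun h => hx1 (by rw [h]; rfl), rfl⟩)
    · rcases eq_or_ne v 1 with rfl | hv1
      · exact Or.inl (by simp)
      · exact Or.inr (Or.inr ⟨_, ⟨v, mem_subgroupOf.2 hv, hv1, rfl⟩, rfl⟩)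
  have htT : t ∉ T := fun ⟨v, _, _, e⟩ => D.htN (e ▸ v.2)
  have htT' : t ∉ T' := by
    rintro ⟨_, ⟨v, _, hv1, rfl⟩, e⟩
    exact hv1 (Subtype.ext (by simpa using e))
  have htO : t ∈ O := MulAction.mem_orbit_self t
  obtain ⟨m, hm, hmove⟩ := D.exists_mover hperf
  have hO2 : ∃ x ∈ O, x ≠ t := ⟨_, hOinv m hm t htO, hmove⟩
  have hboth : T ⊆ O ∧ T' ⊆ O := by
    obtain ⟨x, hx, hxt⟩ := hO2
    have hsub : O ⊆ insert t (T ∪ T') := fun y hy => by
      rcases hcover y (hOS y hy).1 (hOS y hy).2 with h | h | h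
      · exact Or.inl h
      · exact Or.inr (Or.inl h)
      · exact Or.inr (Or.inr h)
    rcases (hsub hx).resolve_left hxt with h | h
    · refine ⟨(htriple x hx).1 h, ?_⟩
      by_contra hn
      have : O = insert t T := Set.Subset.antisymm (fun y hy => by
          rcases hsub hy with h' | h' | h'
          · exact Or.inl h'
          · exact Or.inr h'
          · exact absurd ((htriple y hy).2 h') hn)
        (Set.insert_subset htO ((htriple x hx).1 h))
      rw [this, Set.ncard_insert_of_notMem htT (Set.toFinite _), hcardT] at hodd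
      exact hodd (by norm_num)
    · refine ⟨?_, (htriple x hx).2 h⟩
      by_contra hn
      have : O = insert t T' := Set.Subset.antisymm (fun y hy => by
          rcases hsub hy with h' | h' | h'
          · exact Or.inl h'
          · exact absurd ((htriple y hy).1 h') hn
          · exact Or.inr h')
        (Set.insert_subset htO ((htriple x hx).2 h))
      rw [this, Set.ncard_insert_of_notMem htT' (Set.toFinite _), hcardT'] at hodd
      exact hodd (by norm_num)
  intro s hs hs1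
  have hsO : s ∈ O := by
    rcases hcover s hs hs1 with rfl | h | h
    · exact htO
    · exact hboth.1 h
    · exact hboth.2 h
  obtain ⟨n, hn⟩ := hsO
  exact ⟨n, n.2, hn⟩

end Setting

end CfsgLib.TwoSylow.JankoRee
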