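/-
2-power order automorphisms fixing the Sylow 2-subgroup pointwise are inner.
-/
import Cfsg.Agent.Lib.TwoSylow.JankoRee.Structure

set_option autoImplicit false

namespace CfsgLib.TwoSylow.JankoRee.Setting

open Subgroup CfsgLib.Classical.SL2Q

variable {G : Type*} [Group G] [Finite G] {t : G} {N : Subgroup G} {S : Sylow 2 G}

/-- A correcting automorphism fixing the involution centralizer, with the element of `N` used. -/
theorem exists_fix_centralizer (D : Setting t N S) {φ : MulAut G} {k : ℕ} (hφ : φ ^ (2 ^ k) = 1)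
    (hfix : ∀ s ∈ (S : Subgroup G), φ s = s) :
    ∃ v ∈ (S : Subgroup G), ∃ φ' : MulAut G, φ' ^ (2 ^ (k + 1)) = 1 ∧ φ = MulAut.conj v * φ' ∧
      (∀ s ∈ (S : Subgroup G), φ' s = s) ∧ ∀ h ∈ centralizer ({t} : Set G), φ' h = h := by
  classical
  set C := centralizer ({t} : Set G) with hC
  have hφt := hfix t D.htS
  have hmemC : ∀ x, φ x ∈ C ↔ x ∈ C := fun x => by
    rw [hC, mem_centralizer_singleton_iff, mem_centralizer_singleton_iff]
    conv_lhs => rw [← hφt, ← map_mul, ← map_mul]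
    exact φ.injective.eq_iff
  set M := N.map φ.toMonoidHom with hM
  have hMC : M ≤ C := by
    rintro _ ⟨x, hx, rfl⟩
    exact (hmemC x).2 (D.hNC hx)
  have hMn : ∀ c ∈ C, ∀ y ∈ M, c * y * c⁻¹ ∈ M := by
    intro c hc y hy
    obtain ⟨x, hx, rfl⟩ := mem_map.1 hy
    exact mem_map.2 ⟨φ.symm c * x * (φ.symm c)⁻¹,
      D.hnorm _ ((hmemC _).1 (by rwa [φ.apply_symm_apply])) x hx, by simp⟩
  have : IsSimpleGroup N := D.hfacts.simple
  have hnor : (M.subgroupOf N).Normal := ⟨fun y hy g => by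
    rw [mem_subgroupOf] at hy ⊢
    simpa using hMn _ (D.hNC g.2) _ hy⟩
  have hMN : N ≤ M := by
    rcases hnor.eq_bot_or_eq_top with h | h
    · exfalso
      obtain ⟨v, hv, hv1, -⟩ := exists_pair_in_klein D.klein (one_mem _)
      refine hv1 ((mem_bot (G := N)).1 (h ▸ ?_))
      rw [mem_subgroupOf] at hv ⊢
      exact mem_map.2 ⟨v, v.2, hfix _ hv⟩
    · exact subgroupOf_eq_top.1 h
  have hMeq : N = M := eq_of_le_of_card_ge hMN (card_map_of_injective φ.injective).le
  have hφN : ∀ x ∈ N, φ x ∈ N := fun x hx => by rw [hMeq]; exact mem_map_of_mem _ hx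
  have hφN' : ∀ x ∈ N, φ.symm x ∈ N := fun x hx => by
    rw [hMeq, hM, mem_map_equiv] at hx
    exact hx
  let β : MulAut N :=
    { toFun := fun x => ⟨φ x, hφN x x.2⟩
      invFun := fun x => ⟨φ.symm x, hφN' x x.2⟩
      left_inv := fun x => Subtype.ext (φ.symm_apply_apply x)
      right_inv := fun x => Subtype.ext (φ.apply_symm_apply x)
      map_mul' := fun x y => Subtype.ext (map_mul φ (x : G) y) }
  have hβpow : ∀ (m : ℕ) (x : N), (((β ^ m) x : N) : G) = (φ ^ m) x := by
    intro m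
    induction m with
    | zero => intro x; rfl
    | succ m ih =>
      intro x
      rw [pow_succ, pow_succ, MulAut.mul_apply, MulAut.mul_apply, ih]
      rfl
  obtain ⟨v, hv, hb⟩ := D.hfacts.aut _ D.klein β k
    (MulEquiv.ext fun x => Subtype.ext (by rw [hβpow, hφ]; rfl))
    (fun v hv => Subtype.ext (hfix _ (mem_subgroupOf.1 hv)))
  have hvS : (v : G) ∈ (S : Subgroup G) := mem_subgroupOf.1 hv
  have hb' : ∀ x ∈ N, φ x = v * x * (v : G)⁻¹ := fun x hx => by
    simpa [β] using congrArg (fun f : MulAut N => ((f ⟨x, hx⟩ : N) : G)) hb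
  set ψ : MulAut G := MulAut.conj (v : G)⁻¹ * φ with hψ
  have hψx : ∀ x, ψ x = (v : G)⁻¹ * φ x * v := fun x => by simp [hψ]
  have hψS : ∀ s ∈ (S : Subgroup G), ψ s = s := fun s hs => by
    rw [hψx, hfix s hs, mul_assoc, D.hSab s hs _ hvS, inv_mul_cancel_left]
  have hψN : ∀ x ∈ N, ψ x = x := fun x hx => by rw [hψx, hb' x hx]; group
  refine ⟨v, hvS, ψ, ?_, by rw [hψ, map_inv, mul_inv_cancel_left], hψS, ?_⟩
  · have hcomm : Commute (MulAut.conj (v : G)⁻¹) φ := MulEquiv.ext fun x => by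
      simp [hfix _ hvS]
    rw [hψ, hcomm.mul_pow, pow_succ, pow_mul φ, hφ, one_pow, mul_one, mul_comm (2 ^ k) 2, pow_mul,
      ← map_pow MulAut.conj, pow_two, D.elementary (inv_mem hvS), map_one, one_pow]
  have hvC : (v : G) ∈ C := D.sylow_le hvS
  have hψC : ∀ h ∈ C, ψ h ∈ C := fun h hh => by
    rw [hψx]; exact mul_mem (mul_mem (inv_mem hvC) ((hmemC h).2 hh)) hvC
  have hz : ∀ h ∈ C, ψ h * h⁻¹ = 1 ∨ ψ h * h⁻¹ = t := by
    intro h hh
    refine D.hcent _ (mul_mem (hψC h hh) (inv_mem hh)) fun x hx => ?_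
    have h1 := hψN _ (D.hnorm _ (inv_mem hh) x hx)
    rw [inv_inv, map_mul, map_mul, map_inv, hψN x hx] at h1
    calc ψ h * h⁻¹ * x = ψ h * (h⁻¹ * x * h) * h⁻¹ := by group
      _ = ψ h * ((ψ h)⁻¹ * x * ψ h) * h⁻¹ := by rw [h1]
      _ = x * (ψ h * h⁻¹) := by group
  have hsq : ∀ h ∈ C, ψ (h * h) = h * h := by
    intro h hh
    rcases hz h hh with e | e
    · rw [map_mul, mul_inv_eq_one.1 e]
    · rw [map_mul, mul_inv_eq_iff_eq_mul.1 e, show t * h * (t * h) = t * (h * t) * h by group,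
        D.comm_t hh, show t * (t * h) * h = t * t * (h * h) by group, D.t_sq, one_mul]
  set K0 := (MonoidHom.eqLocus ψ.toMonoidHom (MonoidHom.id G)).subgroupOf C with hK0
  have hK0mem : ∀ h : C, h ∈ K0 ↔ ψ h = h := fun h => Iff.rfl
  have hK0n : K0.Normal := ⟨fun y hy g => by
    rw [hK0mem] at hy ⊢
    have hcz : (ψ g * (g : G)⁻¹) * (g * y * (g : G)⁻¹) = (g * y * (g : G)⁻¹) * (ψ g * (g : G)⁻¹) := by
      rcases hz g g.2 with e | e <;> rw [e]
      · simp
      · exact (D.comm_t (mul_mem (mul_mem g.2 y.2) (inv_mem g.2))).symm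
    simp only [Subgroup.coe_mul, Subgroup.coe_inv, map_mul, map_inv, hy]
    calc ψ g * (y : G) * (ψ g)⁻¹
        = (ψ g * (g : G)⁻¹) * (g * y * (g : G)⁻¹) * (ψ g * (g : G)⁻¹)⁻¹ := by group
      _ = g * y * (g : G)⁻¹ := by rw [hcz, mul_inv_cancel_right]⟩
  have hSK : (S : Subgroup G).subgroupOf C ≤ K0 := fun s hs =>
    (hK0mem s).2 (hψS _ (mem_subgroupOf.1 hs))
  have hidx : ¬ 2 ∣ K0.index := fun hd =>
    S.not_dvd_index ((hd.trans (index_dvd_of_le hSK)).trans (relIndex_dvd_index_of_le D.sylow_le))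
  intro h hh
  refine (hK0mem ⟨h, hh⟩).1 ?_
  obtain ⟨c, hc⟩ : Odd K0.index := by rwa [← Nat.not_even_iff_odd, even_iff_two_dvd]
  have h1 := K0.pow_index_mem (⟨h, hh⟩ : C)
  have h2 : (⟨h, hh⟩ : C) ^ 2 ∈ K0 := (hK0mem _).2 (by
    rw [SubmonoidClass.coe_pow, pow_two]; exact hsq h hh)
  rw [hc, pow_succ, pow_mul] at h1
  exact (mul_mem_cancel_left (pow_mem h2 c)).1 h1

theorem aut_inner_of_fix (D : Setting t N S) (hperf : commutator G = ⊤) {φ : MulAut G} {k : ℕ}
    (hφ : φ ^ (2 ^ k) = 1) (hfix : ∀ s ∈ (S : Subgroup G), φ s = s) :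
    ∃ g : G, ∀ x : G, φ x = g * x * g⁻¹ := by
  classical
  have : Fact (Nat.Prime 2) := ⟨Nat.prime_two⟩
  obtain ⟨v, hv, ψ, hψp, rfl, hψS, hψC⟩ := D.exists_fix_centralizer hφ hfix
  set Q := normalizer (S : Set G) with hQ
  have hQS : ∀ n ∈ Q, ∀ s ∈ (S : Subgroup G), n * s * n⁻¹ ∈ (S : Subgroup G) :=
    fun n hn s hs => (mem_normalizer_iff.1 hn s).1 hs
  have hd : ∀ n ∈ Q, ψ n * n⁻¹ ∈ (S : Subgroup G) := by
    intro n hn
    set c := n⁻¹ * ψ n with hc
    have hcs : ∀ s ∈ (S : Subgroup G), c * s = s * c := by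
      intro s hs
      have h1 := hψS _ (hQS n hn s hs)
      rw [map_mul, map_mul, map_inv, hψS s hs] at h1
      calc c * s = n⁻¹ * (ψ n * s * (ψ n)⁻¹) * ψ n := by rw [hc]; group
        _ = n⁻¹ * (n * s * n⁻¹) * ψ n := by rw [h1]
        _ = s * c := by rw [hc]; group
    have hcfix : ψ c = c := hψC c (mem_centralizer_singleton_iff.2 (hcs t D.htS))
    have hiter : ∀ j : ℕ, (ψ ^ j) n = n * c ^ j := by
      intro j
      induction j with
      | zero => simp
      | succ j ih =>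
        rw [pow_succ', MulAut.mul_apply, ih, map_mul, map_pow, hcfix, pow_succ']
        conv_rhs => rw [← mul_assoc]
        rw [show ψ n = n * c by rw [hc]; group]
    have hc2 : c ^ 2 ^ (k + 1) = 1 := by
      have := hiter (2 ^ (k + 1))
      rw [hψp] at this
      exact (mul_eq_left.1 this.symm)
    obtain ⟨i, -, hi⟩ := (Nat.dvd_prime_pow Nat.prime_two).1 (orderOf_dvd_of_pow_eq_one hc2)
    have hp : IsPGroup 2 (zpowers c) := IsPGroup.of_card (n := i) (by rw [Nat.card_zpowers, hi])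
    have hsup := hp.to_sup_of_normal_right' S.2 (zpowers_le.2 (mem_normalizer_iff.2 fun s => by
      constructor
      · intro hs; rwa [hcs s hs, mul_inv_cancel_right]
      · intro hs
        have h' := hcs _ hs
        rw [show c * s * c⁻¹ * c = c * s by group, mul_right_inj] at h'
        rwa [h'] at hs))
    have hcS : c ∈ (S : Subgroup G) := by
      rw [← S.is_maximal' hsup le_sup_right]
      exact mem_sup_left (mem_zpowers c)
    have := hQS n hn c hcS
    rwa [hc, mul_inv_cancel_left] at this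
  letI : CommGroup ↥(S : Subgroup G) := { (inferInstance : Group ↥(S : Subgroup G)) with
    mul_comm := fun x y => Subtype.ext (D.hSab _ x.2 _ y.2) }
  set S' := (S : Subgroup G).subgroupOf Q with hS'
  let d : Q → (S : Subgroup G) := fun n => ⟨ψ n * (n : G)⁻¹, hd n n.2⟩
  have hdinv : ∀ m n : Q, (QuotientGroup.leftRel S').r m n → d m = d n := by
    intro m n h
    rw [QuotientGroup.leftRel_apply, hS', mem_subgroupOf] at h
    have h1 := hψS _ h
    simp only [Subgroup.coe_mul, Subgroup.coe_inv, map_mul, map_inv] at h1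
    exact Subtype.ext (show ψ m * (m : G)⁻¹ = ψ n * (n : G)⁻¹ by
      rw [inv_mul_eq_iff_eq_mul.1 h1]; group)
  let d' : Q ⧸ S' → (S : Subgroup G) := Quotient.lift d hdinv
  have : Fintype (Q ⧸ S') := Fintype.ofFinite _
  let cj : Q →* MulAut (S : Subgroup G) := conjN Q (S : Subgroup G) hQS
  set D0 : (S : Subgroup G) := ∏ q : Q ⧸ S', d' q with hD0
  have hel : ∀ x : (S : Subgroup G), x * x = 1 := fun x => Subtype.ext (D.elementary x.2)
  have hodd : Odd (Fintype.card (Q ⧸ S')) := by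
    rw [← Nat.not_even_iff_odd, even_iff_two_dvd, ← Nat.card_eq_fintype_card, ← index_eq_card]
    exact fun h => S.not_dvd_index (h.trans (relIndex_dvd_index_of_le le_normalizer))
  have hkey : ∀ n : Q, cj n D0 = d n * D0 := by
    intro n
    have hpt : ∀ q : Q ⧸ S', cj n (d' q) = d n * d' (n • q) := by
      intro q
      induction q using QuotientGroup.induction_on with | _ m => ?_
      show cj n (d m) = d n * d (n * m)
      nth_rewrite 1 [← inv_eq_of_mul_eq_one_right (hel (d n))]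
      rw [eq_inv_mul_iff_mul_eq]
      refine Subtype.ext ?_
      show ψ n * (n : G)⁻¹ * (n * (ψ m * (m : G)⁻¹) * (n : G)⁻¹) = ψ (n * m) * ((n : G) * m)⁻¹
      rw [map_mul]; group
    obtain ⟨c, hc⟩ := hodd
    rw [hD0, map_prod, Finset.prod_congr rfl fun q _ => hpt q, Finset.prod_mul_distrib, Finset.prod_const,
      Finset.card_univ, hc, pow_succ, pow_mul, pow_two, hel, one_pow, one_mul]
    exact congrArg _ (Equiv.prod_comp (MulAction.toPerm n : Equiv.Perm (Q ⧸ S')) d')
  set e : G := (D0 : G) with he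
  have hee : e * e = 1 := D.elementary D0.2
  have hψQ : ∀ n ∈ Q, ψ n = e * n * e := by
    intro n hn
    have h1 : n * e * n⁻¹ = ψ n * n⁻¹ * e := congrArg Subtype.val (hkey ⟨n, hn⟩)
    have h2 : e * (n * e * n⁻¹) = n * e * n⁻¹ * e := D.hSab _ D0.2 _ (hQS n hn e D0.2)
    calc ψ n = ψ n * n⁻¹ * (e * e) * n := by rw [hee]; group
      _ = (ψ n * n⁻¹ * e) * e * n := by group
      _ = (n * e * n⁻¹) * e * n := by rw [h1]
      _ = e * (n * e * n⁻¹) * n := by rw [h2]
      _ = e * n * e := by group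
  obtain ⟨a, haQ, hat, hafix⟩ := D.exists_cycle'
  have hea : (a : G) * e = e * a := by
    have h1 := hψQ a haQ
    rw [hψC a (D.hNC a.2)] at h1
    calc (a : G) * e = e * a * e * e := by rw [← h1]
      _ = e * a := by rw [mul_assoc _ e e, hee, mul_one]
  have heC : ∀ h ∈ centralizer ({t} : Set G), e * h = h * e := by
    obtain ⟨w, hw, hor⟩ := D.decomp D0.2
    have hw1 : w = 1 := hafix w hw (by
      rcases hor with h | h <;> rw [← he] at h <;> rw [h] at hea
      · rw [hea, mul_inv_cancel_right]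
      · rw [← mul_assoc, hat, mul_assoc t, mul_assoc t] at hea
        rw [mul_left_cancel hea, mul_inv_cancel_right])
    subst hw1
    intro h hh
    rcases hor with h' | h' <;> rw [← he] at h' <;> rw [h'] <;> simp only [OneMemClass.coe_one, mul_one, one_mul]
    exact (D.comm_t hh).symm
  set ρ : MulAut G := MulAut.conj e * ψ with hρ
  have hρx : ∀ x, ρ x = e * ψ x * e := fun x => by
    simp [hρ, inv_eq_of_mul_eq_one_right hee]
  set R := MonoidHom.eqLocus ρ.toMonoidHom (MonoidHom.id G) with hR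
  have hCR : centralizer ({t} : Set G) ≤ R := fun h hh => by
    show ρ h = h
    rw [hρx, hψC h hh, heC h hh, mul_assoc, hee, mul_one]
  obtain ⟨n, hn, hnt⟩ := D.exists_mover hperf
  have hnR : n ∈ R := by
    show ρ n = n
    rw [hρx, hψQ n hn]
    calc e * (e * n * e) * e = (e * e) * n * (e * e) := by group
      _ = n := by rw [hee]; group
  have htop : R = ⊤ := D.hcoatom.2 R (lt_of_le_of_ne hCR fun h => hnt (by
    rw [← h, mem_centralizer_singleton_iff] at hnR
    rw [hnR, mul_inv_cancel_right]))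
  refine ⟨v * e, fun x => ?_⟩
  have hx : ρ x = x := (htop ▸ mem_top x : x ∈ R)
  rw [hρx] at hx
  have : ψ x = e * x * e := by
    calc ψ x = (e * e) * ψ x * (e * e) := by rw [hee]; group
      _ = e * (e * ψ x * e) * e := by group
      _ = e * x * e := by rw [hx]
  rw [MulAut.mul_apply, MulAut.conj_apply, this, _root_.mul_inv_rev, inv_eq_of_mul_eq_one_right hee]
  group

end CfsgLib.TwoSylow.JankoRee.Setting
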