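/-
No perfect double cover.
-/
import Cfsg.Agent.Lib.TwoSylow.JankoRee.Structure
import Cfsg.Agent.Lib.Recognition.Suzuki.CoverKernel

set_option autoImplicit false

namespace CfsgLib.TwoSylow.JankoRee.Setting

open Subgroup

variable {G : Type*} [Group G] [Finite G] {t : G} {N : Subgroup G} {S : Sylow 2 G}

theorem no_double_cover (D : Setting t N S) (hperf : commutator G = ⊤) {L : Type*} [Group L] [Finite L]
    (hLperf : commutator L = ⊤) (π : L →* G) (hπ : Function.Surjective π) (hker : π.ker ≤ center L)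
    (hcard : Nat.card π.ker = 2) : False := by
  classical
  have : Fact (Nat.Prime 2) := ⟨Nat.prime_two⟩
  set T := (S : Subgroup G).comap π with hT
  have hmemT : ∀ {x}, x ∈ T ↔ π x ∈ (S : Subgroup G) := Iff.rfl
  have hkT : π.ker ≤ T := fun x hx => by
    rw [hmemT, MonoidHom.mem_ker.1 hx]; exact one_mem _
  have hzc : ∀ z ∈ π.ker, ∀ g : L, g * z = z * g := fun z hz g => mem_center_iff.1 (hker hz) g
  have hcm : ∀ x ∈ T, ∀ y ∈ T, x * y * x⁻¹ * y⁻¹ ∈ π.ker := fun x hx y hy => by
    rw [MonoidHom.mem_ker, map_mul, map_mul, map_mul, map_inv, map_inv,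
      D.hSab _ (hmemT.1 hx) _ (hmemT.1 hy)]
    group
  have hTcard : Nat.card T = 2 * Nat.card (S : Subgroup G) := by
    rw [← Subgroup.card_mul_index (π.ker.subgroupOf T),
      Nat.card_congr (subgroupOfEquivOfLe hkT).toEquiv, hcard]
    congr 1
    let f : T →* (S : Subgroup G) := (π.comp T.subtype).codRestrict _ fun x => x.2
    have hf : π.ker.subgroupOf T = f.ker := by
      ext x
      rw [mem_subgroupOf, MonoidHom.mem_ker, MonoidHom.mem_ker, Subtype.ext_iff]
      rfl
    rw [hf, index_ker]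
    rw [MonoidHom.range_eq_top.2 fun s => ?_, Nat.card_congr topEquiv.toEquiv]
    obtain ⟨x, hx⟩ := hπ (s : G)
    exact ⟨⟨x, hmemT.2 (by rw [hx]; exact s.2)⟩, Subtype.ext hx⟩
  suffices hcomm : ∀ x ∈ T, ∀ y ∈ T, x * y = y * x by
    have hidx : ¬ 2 ∣ T.index := by
      rw [hT, index_comap_of_surjective _ hπ]; exact S.not_dvd_index
    have hTp : IsPGroup 2 T := S.2.comap_of_ker_isPGroup π (IsPGroup.of_card (n := 1) (by rw [hcard, pow_one]))
    exact CfsgLib.Recognition.CoverKernel.not_dvd_of_abelian_sylow hker (by rw [hLperf]; exact le_top)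
      (hTp.toSylow hidx) hcomm (by rw [hcard])
  by_contra! hnc
  obtain ⟨x, hx, y, hy, hxy⟩ := hnc
  -- a noncentral lift commuting with `x` and `y`
  obtain ⟨w, hw, hw1, hwx, hwy⟩ : ∃ w ∈ T, π w ≠ 1 ∧ w * x = x * w ∧ w * y = y * w := by
    let cm : ∀ u ∈ T, T →* π.ker := fun u hu =>
      { toFun := fun s => ⟨u * s * u⁻¹ * (s : L)⁻¹, hcm u hu s s.2⟩
        map_one' := Subtype.ext (by simp)
        map_mul' := fun r s => Subtype.ext (by
          show u * ((r : L) * s) * u⁻¹ * ((r : L) * s)⁻¹ = u * r * u⁻¹ * (r : L)⁻¹ * (u * s * u⁻¹ * (s : L)⁻¹)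
          calc u * ((r : L) * s) * u⁻¹ * ((r : L) * s)⁻¹
              = u * r * u⁻¹ * ((u * s * u⁻¹ * (s : L)⁻¹) * (r : L)⁻¹) := by group
            _ = u * r * u⁻¹ * ((r : L)⁻¹ * (u * s * u⁻¹ * (s : L)⁻¹)) := by
                rw [hzc _ (hcm u hu s s.2) (r : L)⁻¹]
            _ = _ := by group) }
    let f : T →* π.ker × π.ker := (cm x hx).prod (cm y hy)
    have hr : Nat.card f.range ≤ 4 := (card_le_card_group _).trans (by rw [Nat.card_prod, hcard])
    have hk := Subgroup.card_mul_index f.ker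
    rw [index_ker, hTcard] at hk
    have hS8 : 8 ≤ Nat.card (S : Subgroup G) := by
      have h4 := D.klein.card_four
      have hlt : ((S : Subgroup G) ⊓ N) < (S : Subgroup G) :=
        lt_of_le_of_ne inf_le_left fun h => D.htN (h.symm.le D.htS).2
      obtain ⟨i, hi⟩ := IsPGroup.iff_card.1 S.2
      have h5 : Nat.card ((S : Subgroup G).subgroupOf N) = Nat.card ((S : Subgroup G) ⊓ N : Subgroup G) := by
        rw [← inf_subgroupOf_right, Nat.card_congr (subgroupOfEquivOfLe inf_le_right).toEquiv]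
      have h6 : Nat.card ((S : Subgroup G) ⊓ N : Subgroup G) < Nat.card (S : Subgroup G) := by
        by_contra! hge
        exact hlt.ne (eq_of_le_of_card_ge inf_le_left hge)
      rw [← h5, h4, hi] at h6
      rw [hi]
      calc 8 = 2 ^ 3 := by norm_num
        _ ≤ 2 ^ i := Nat.pow_le_pow_right (by norm_num) (by
          by_contra! hlt3
          interval_cases i <;> norm_num at h6)
    have h4 : 2 < Nat.card f.ker := by
      by_contra! hle
      have := Nat.mul_le_mul hle hr
      omega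
    by_contra! hno
    have hsub : Nat.card f.ker ≤ Nat.card π.ker := by
      refine Nat.card_le_card_of_injective (fun s => (⟨(s.1 : L), ?_⟩ : π.ker)) fun a b h => ?_
      · obtain ⟨⟨s, hs⟩, hsk⟩ := s
        rw [MonoidHom.mem_ker] at hsk ⊢
        have e1 : x * s * x⁻¹ * s⁻¹ = 1 := congrArg (fun p => ((p.1 : π.ker) : L)) hsk
        have e2 : y * s * y⁻¹ * s⁻¹ = 1 := congrArg (fun p => ((p.2 : π.ker) : L)) hsk
        by_contra hne
        refine hno s hs hne ?_ ?_
        · exact (mul_inv_eq_iff_eq_mul.1 (mul_inv_eq_one.1 e1)).symm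
        · exact (mul_inv_eq_iff_eq_mul.1 (mul_inv_eq_one.1 e2)).symm
      · exact Subtype.ext (Subtype.ext (congrArg (fun p : π.ker => (p : L)) h))
    omega
  -- `w` is central in `T`
  have hwT : ∀ u ∈ T, w * u = u * w := by
    have hle : T ⊓ centralizer ({w} : Set L) ≤ T := inf_le_left
    set W := T ⊓ centralizer ({w} : Set L)
    have hkW : π.ker ≤ W := fun z hz => ⟨hkT hz, mem_centralizer_singleton_iff.2 (hzc z hz w).symm⟩
    have hxW : x ∈ W := ⟨hx, mem_centralizer_singleton_iff.2 hwx.symm⟩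
    have hyW : y ∈ W := ⟨hy, mem_centralizer_singleton_iff.2 hwy.symm⟩
    have hwW : w ∈ W := ⟨hw, mem_centralizer_singleton_iff.2 rfl⟩
    have hcase : ∀ {a b : L}, π a = π b → ∀ u, b * u = u * b → a * u = u * a := by
      intro a b h u hb
      have hz : a * b⁻¹ ∈ π.ker := by rw [MonoidHom.mem_ker, map_mul, map_inv, h, mul_inv_cancel]
      calc a * u = a * b⁻¹ * (b * u) := by group
        _ = a * b⁻¹ * u * b := by rw [hb]; group
        _ = u * (a * b⁻¹) * b := by rw [hzc _ hz u]
        _ = u * a := by group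
    have hx1 : π x ≠ 1 := fun h => hxy (by
      rw [hzc x (MonoidHom.mem_ker.2 h) y])
    have hy1 : π y ≠ 1 := fun h => hxy (hzc y (MonoidHom.mem_ker.2 h) x)
    have hxy' : π x ≠ π y := fun h => hxy (hcase h y rfl)
    have hwx' : π w ≠ π x := fun h => hxy (hcase h.symm y hwy)
    have hwy' : π w ≠ π y := fun h => hxy ((hcase h.symm x hwx).symm)
    set R := W.map π
    have hRS : R ≤ (S : Subgroup G) := map_le_iff_le_comap.2 hle
    have h5 : 4 < Nat.card R := by
      have hsub : ({1, π x, π y, π w, π x * π y} : Set G) ⊆ (R : Set G) := by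
        rintro u (rfl | rfl | rfl | rfl | rfl)
        · exact one_mem R
        · exact mem_map_of_mem _ hxW
        · exact mem_map_of_mem _ hyW
        · exact mem_map_of_mem _ hwW
        · rw [← map_mul]; exact mem_map_of_mem _ (mul_mem hxW hyW)
      have hp1 : π x * π y ≠ 1 := fun h => hxy' (mul_right_cancel (h.trans (D.elementary (hmemT.1 hy)).symm))
      have hp2 : π x * π y ≠ π x := fun h => hy1 (mul_eq_left.1 h)
      have hp3 : π x * π y ≠ π y := fun h => hx1 (mul_eq_right.1 h)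
      have hp4 : π w ≠ π x * π y := fun h => by
        have h' := hcase (a := x * y) (b := w) (by rw [map_mul, h]) x hwx
        exact hxy (mul_left_cancel (show x * (x * y) = x * (y * x) by rw [← h', mul_assoc]))
      have := Set.ncard_le_ncard hsub (Set.toFinite _)
      rw [Set.ncard_insert_of_notMem (by simp [hx1.symm, hy1.symm, hw1.symm, hp1.symm]) (Set.toFinite _),
        Set.ncard_insert_of_notMem (by simp [hxy', hwx'.symm, hp2.symm]) (Set.toFinite _),
        Set.ncard_insert_of_notMem (by simp [hwy'.symm, hp3.symm]) (Set.toFinite _),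
        Set.ncard_pair hp4, ← Nat.card_coe_set_eq] at this
      simp only [SetLike.coe_sort_coe] at this
      omega
    have hS8 : Nat.card (S : Subgroup G) ≤ 8 := by
      have hk4 := D.klein.card_four
      have := Fintype.ofFinite ((S : Subgroup G).subgroupOf N)
      refine le_trans (Nat.card_le_card_of_surjective
        (fun p : Fin 2 × ((S : Subgroup G).subgroupOf N) =>
          (⟨t ^ (p.1 : ℕ) * ((p.2 : N) : G), mul_mem (pow_mem D.htS _) (mem_subgroupOf.1 p.2.2)⟩ :
            (S : Subgroup G))) ?_) (by rw [Nat.card_prod, hk4, Nat.card_fin])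
      rintro ⟨s, hs⟩
      obtain ⟨v, hv, rfl | rfl⟩ := D.decomp hs
      · exact ⟨(0, ⟨v, mem_subgroupOf.2 hv⟩), Subtype.ext (by simp)⟩
      · exact ⟨(1, ⟨v, mem_subgroupOf.2 hv⟩), Subtype.ext (by simp)⟩
    have hRe : R = (S : Subgroup G) := by
      refine eq_of_le_of_card_ge hRS ?_
      obtain ⟨c, hc⟩ := card_dvd_of_le hRS
      rw [hc] at hS8 ⊢
      rcases c with _ | _ | c
      · simp
      · simp
      · nlinarith
    intro u hu
    obtain ⟨r, hr, hre⟩ : π u ∈ R := hRe.symm ▸ hmemT.1 hu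
    exact (hcase (a := u) (b := r) hre.symm w (mem_centralizer_singleton_iff.1 hr.2)).symm
  -- hence every lift is central
  refine hxy ?_
  rcases eq_or_ne (π x) 1 with h | h
  · rw [hzc x (MonoidHom.mem_ker.2 h) y]
  obtain ⟨n, hn, he⟩ := D.transitive hperf (hmemT.1 hw) hw1 (hmemT.1 hx) h
  obtain ⟨m, rfl⟩ := hπ n
  have hy' : m⁻¹ * y * m ∈ T := by
    rw [hmemT, map_mul, map_mul, map_inv]
    exact (mem_normalizer_iff''.1 hn _).1 (hmemT.1 hy)
  have hc : m * w * m⁻¹ * y = y * (m * w * m⁻¹) := by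
    calc m * w * m⁻¹ * y = m * (w * (m⁻¹ * y * m)) * m⁻¹ := by group
      _ = m * ((m⁻¹ * y * m) * w) * m⁻¹ := by rw [hwT _ hy']
      _ = y * (m * w * m⁻¹) := by group
  have hz : x * (m * w * m⁻¹)⁻¹ ∈ π.ker := by
    rw [MonoidHom.mem_ker, map_mul, map_inv, map_mul, map_mul, map_inv, he, mul_inv_cancel]
  calc x * y = x * (m * w * m⁻¹)⁻¹ * (m * w * m⁻¹ * y) := by group
    _ = x * (m * w * m⁻¹)⁻¹ * y * (m * w * m⁻¹) := by rw [hc]; group
    _ = y * (x * (m * w * m⁻¹)⁻¹) * (m * w * m⁻¹) := by rw [hzc _ hz y]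
    _ = y * x := by group

end CfsgLib.TwoSylow.JankoRee.Setting
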